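import Groth.Agent.RedSub.H638.WeylCover

/-!
# The elements `n_w` normalize the torus

`exists_conj_nw`, `exists_conj_nw_inv`: in a `PinCell`, conjugation by `n_w` and `n_w⁻¹` carries `T(B)` to `T(B)`.
-/

set_option autoImplicit false
universe u

namespace Groth.Agent.RedSub.H652.NwConj

open Groth.Agent.Sga3B Groth.Agent.Sga3B.Cell
open Groth.Agent.RedSub.H638 Groth.Agent.RedSub.H638.WeylBase

section Cell

variable {idx M : Type} [Fintype idx] [AddCommGroup M] [Module.Free ℤ M]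
    [Module.Finite ℤ M] {P : RootPairing idx ℤ M (Module.Dual ℤ M)} {b : P.Base}
    {R A : Type u} [CommRing R] [CommRing A] [Algebra R A] [PtGrp R A] (E : PinCell P b R A)
    {B : Type u} [CommRing B] [Algebra R B]

/-- `n_w` normalises the torus -/
lemma exists_conj_nw {l : List idx} (hl : ∀ a ∈ l, a ∈ b.support) (t : TPt M B) :
    ∃ t' : TPt M B, nw E B l * E.i B t * (nw E B l)⁻¹ = E.i B t' := by
  induction l generalizing t with
  | nil => exact ⟨t, by simp⟩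
  | cons a l ih =>
    obtain ⟨t₁, h₁⟩ := ih (fun c hc => hl c (List.mem_cons_of_mem _ hc)) t
    refine ⟨t₁ * (TPt.cow (P.coroot a) (t₁ (Multiplicative.ofAdd (P.root a))))⁻¹, ?_⟩
    rw [nw_cons]
    have h2 : E.nn a B * nw E B l * E.i B t * (E.nn a B * nw E B l)⁻¹ =
        E.nn a B * (nw E B l * E.i B t * (nw E B l)⁻¹) * (E.nn a B)⁻¹ := by group
    rw [h2, h₁]
    exact nn_conj_i E (hl a List.mem_cons_self) t₁

lemma exists_conj_nn_inv {a : idx} (ha : a ∈ b.support) (t : TPt M B) :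
    ∃ t' : TPt M B, (E.nn a B)⁻¹ * E.i B t * E.nn a B = E.i B t' := by
  have h1 : (E.nn a B)⁻¹ * E.i B t * E.nn a B = (E.nn a B)⁻¹ * E.i B t * ((E.nn a B)⁻¹)⁻¹ := by
    rw [_root_.inv_inv]
  have h2 : ∀ c n x : Pt R A B, c * n * x * (c * n)⁻¹ = c * (n * x * n⁻¹) * c⁻¹ := by
    intro c n x
    group
  refine ⟨TPt.cow (P.coroot a) (-1) *
    (t * (TPt.cow (P.coroot a) (t (Multiplicative.ofAdd (P.root a))))⁻¹) *
    (TPt.cow (P.coroot a) (-1))⁻¹, ?_⟩
  rw [h1, nn_inv E ha, h2, nn_conj_i E ha t, map_mul (E.i B) _ (TPt.cow (P.coroot a) (-1))⁻¹,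
    map_mul (E.i B) (TPt.cow (P.coroot a) (-1)), Word.i_inv E]

/-- `n_w⁻¹` normalises the torus -/
lemma exists_conj_nw_inv {l : List idx} (hl : ∀ a ∈ l, a ∈ b.support) (t : TPt M B) :
    ∃ t' : TPt M B, (nw E B l)⁻¹ * E.i B t * nw E B l = E.i B t' := by
  induction l generalizing t with
  | nil => exact ⟨t, by simp⟩
  | cons a l ih =>
    obtain ⟨t₁, h₁⟩ := exists_conj_nn_inv E (hl a List.mem_cons_self) t
    obtain ⟨t₂, h₂⟩ := ih (fun c hc => hl c (List.mem_cons_of_mem _ hc)) t₁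
    refine ⟨t₂, ?_⟩
    rw [← h₂, ← h₁, nw_cons]
    group

end Cell

end Groth.Agent.RedSub.H652.NwConj
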