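import Groth.Agent.RedSub.H671.IwaPt
import Groth.Agent.RedSub.H652.NwConj

/-!
# The Bruhat decomposition of a split reductive group over an algebraically closed field, scheme form

`K` algebraically closed, `D` a pinning of the reductive `K`-group `G`, `p : P ⟶ G` a subgroup
`P_G(coch D x)` with `x` dominant.  Every `g ∈ G(K)` is `b₁ n b₂` with `b₁, b₂ ∈ P(K)` and `n`
normalizing `T`.
-/

set_option autoImplicit false
universe u

open CategoryTheory MonoidalCategory CartesianMonoidalCategory MonObj GrpObj AlgebraicGeometry Limits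

namespace Groth.Agent.RedSub.H652.BruhatPt

open Groth.Agent.Sga3B Groth.Agent.Sga3B.Cell Groth.Agent.Sga3B.Parab Groth.Agent.Sga3B.PinMod
open Groth.Agent.Sga3B.GaPts Groth.Agent.Sga3B.DSPts Groth.Agent.Sga3B.Parab.AffPts998
open Groth.Agent.Sga3B.Word (posP)
open Groth.Agent.RedSub.H638 Groth.Agent.RedSub.H638.WeylBase Groth.Agent.RedSub.H671.IwaPt

section Iso

variable {K : Type u} [Field K]

lemma specMap_comp_id (C : Type u) [CommRing C] [Algebra K C] :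
    Spec.map (CommRingCat.ofHom (algebraMap K C)) ≫ 𝟙 (Spec (CommRingCat.of K)) =
      Spec.map (CommRingCat.ofHom (algebraMap K C)) := Category.comp_id _

/-- affine points over `Spec K` and `K`-algebras -/
noncomputable def tBIso (C : Type u) [CommRing C] [Algebra K C] :
    aff C (Spec.map (CommRingCat.ofHom (algebraMap K C))) ≅ tB (𝟙 (Spec (CommRingCat.of K))) C :=
  eqToIso (congrArg Over.mk (specMap_comp_id C).symm)

variable (K) in
lemma specMap_self : Spec.map (CommRingCat.ofHom (algebraMap K K)) ≫ 𝟙 _ = 𝟙 _ := by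
  have : algebraMap K K = RingHom.id K := rfl
  rw [this, Category.comp_id, CommRingCat.ofHom_id, Spec.map_id]

variable (K) in
/-- the base over itself -/
noncomputable def unitIso : 𝟙_ (Over (Spec (CommRingCat.of K))) ≅
    tB (𝟙 (Spec (CommRingCat.of K))) K :=
  eqToIso (congrArg Over.mk (specMap_self K).symm)

end Iso

section Main

variable {K : Type u} [Field K] [IsAlgClosed K] {G P : Over (Spec (CommRingCat.of K))} [GrpObj G]
  [GrpObj P]

omit [IsAlgClosed K] in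
/-- a point of `G(K)` which normalizes the torus -/
theorem exists_conj {D : Red.SplitRed G} {b : D.P.Base}
    (m : PinModel D.P b G (PinFinal.jOf D) D.u (𝟙 (Spec (CommRingCat.of K))))
    (n : Pt K m.A K)
    (h : ∀ (C : Type u) [CommRing C] [Algebra K C] (t : TPt D.M C), ∃ t' : TPt D.M C,
      Pt.map (Algebra.ofId K C) n * m.E.i C t * (Pt.map (Algebra.ofId K C) n)⁻¹ = m.E.i C t')
    (X : Over (Spec (CommRingCat.of K))) (y : X ⟶ D.T) :
    ∃ y' : X ⟶ D.T, (toUnit X ≫ (unitIso K).hom ≫ m.pts K n) * (y ≫ D.i) *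
      (toUnit X ≫ (unitIso K).hom ≫ m.pts K n)⁻¹ = y' ≫ D.i := by
  have him := D.maximalTorus.1
  have himono := D.maximalTorus.2.1
  suffices h0 : ∃ y' : X ⟶ D.T, y' ≫ D.i = (toUnit X ≫ (unitIso K).hom ≫ m.pts K n) * (y ≫ D.i) *
      (toUnit X ≫ (unitIso K).hom ≫ m.pts K n)⁻¹ by
    obtain ⟨y', hy'⟩ := h0
    exact ⟨y', hy'.symm⟩
  apply exists_lift_of_aff
  intro C _ c t
  obtain ⟨ψ, rfl⟩ : ∃ ψ : K →+* C, c = Spec.map (CommRingCat.ofHom ψ) :=
    ⟨(Spec.preimage c).hom, (Spec.map_preimage c).symm⟩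
  let _ : Algebra K C := ψ.toAlgebra
  let e : aff C (Spec.map (CommRingCat.ofHom ψ)) ≅ tB (𝟙 (Spec (CommRingCat.of K))) C := tBIso C
  have hsp : D.split.hom.hom.hom ≫ D.split.inv.hom.hom = 𝟙 _ :=
    congrArg (fun f => f.hom.hom) D.split.hom_inv_id
  obtain ⟨τ, hτ⟩ := exists_chΓ (𝟙 (Spec (CommRingCat.of K))) (e.inv ≫ t ≫ y ≫ D.split.hom.hom.hom)
  have h1 : e.inv ≫ t ≫ y ≫ D.i = m.pts C (m.E.i C τ) := by
    rw [m.pts_i, ← hτ]
    change _ = _ ≫ D.split.inv.hom.hom ≫ D.i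
    simp only [Category.assoc, reassoc_of% hsp]
  have h2 : e.inv ≫ t ≫ toUnit X ≫ (unitIso K).hom ≫ m.pts K n =
      m.pts C (Pt.map (Algebra.ofId K C) n) := by
    rw [← m.pts_nat]
    simp only [← Category.assoc]
    congr 1
    rw [← cancel_mono (unitIso K).inv]
    exact toUnit_unique _ _
  obtain ⟨τ', hτ'⟩ := h C τ
  have h3 : e.inv ≫ t ≫ ((toUnit X ≫ (unitIso K).hom ≫ m.pts K n) * (y ≫ D.i) *
      (toUnit X ≫ (unitIso K).hom ≫ m.pts K n)⁻¹) = m.pts C (m.E.i C τ') := by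
    rw [← hτ', map_mul, map_mul, map_inv, ← h1, ← h2]
    simp only [MonObj.comp_mul, GrpObj.comp_inv]
  refine ⟨e.hom ≫ dsEquiv (tB (𝟙 (Spec (CommRingCat.of K))) C) D.M (chΓ _ τ') ≫
    D.split.inv.hom.hom, ?_⟩
  rw [Iso.inv_comp_eq] at h3
  rw [h3, m.pts_i]
  simp only [Category.assoc]

/-- **Bruhat decomposition**: `K` algebraically closed, `P = P_G(x)` with `x` dominant.  Every point
`g ∈ G(K)` is `b₁ n b₂` with `b₁, b₂ ∈ P(K)` and `n` normalizing `T`. -/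
theorem bruhat (D : Red.Pinning G) (x : Module.Dual ℤ D.M)
    (hx : ∀ a, D.base.IsPos a → 0 ≤ x (D.P.root a)) {p : P ⟶ G}
    (hp : IsDynP (Par.coch D.toSplitRed x) p) (t : D.T ⟶ P) (ht : t ≫ p = D.i)
    (g : 𝟙_ (Over (Spec (CommRingCat.of K))) ⟶ G) :
    ∃ (b₁ b₂ : 𝟙_ (Over (Spec (CommRingCat.of K))) ⟶ P)
      (n : 𝟙_ (Over (Spec (CommRingCat.of K))) ⟶ G), g = (b₁ ≫ p) * n * (b₂ ≫ p) ∧
      ∀ (X : Over (Spec (CommRingCat.of K))) (y : X ⟶ D.T), ∃ y' : X ⟶ D.T,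
        (toUnit X ≫ n) * (y ≫ D.i) * (toUnit X ≫ n)⁻¹ = y' ≫ D.i := by
  have hpm := hp.isMonHom
  obtain ⟨m, ε, -, hm⟩ := PinFull.exists_pinModel_full D K (𝟙 (Spec (CommRingCat.of K)))
  obtain ⟨l, hl, c₁, hc₁, c₂, hc₂, h⟩ := WeylCover.bruhat m.E
    ((m.pts K).symm ((unitIso K).inv ≫ g))
  have key : ∀ c ∈ Bor m.E K, m.pts K c ∈ ptsOf p (tB (𝟙 (Spec (CommRingCat.of K))) K) := by
    rintro _ ⟨_, ⟨z, rfl⟩, τ, rfl⟩
    rw [map_mul]
    refine (ptsOf p _).mul_mem ?_ ?_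
    · rw [posP, map_list_prod]
      refine Subgroup.list_prod_mem _ fun w hw => ?_
      rw [List.map_map, List.mem_map] at hw
      obtain ⟨a, ha, rfl⟩ := hw
      rw [Function.comp_apply, hm]
      exact (hp.iff_ptP _ _).2 (ptP_root D.toSplitRed x a (hx a ((mem_posList D.base).1 ha)) _)
    · rw [m.pts_i]
      refine ⟨dsEquiv (tB (𝟙 (Spec (CommRingCat.of K))) K) D.M (chΓ _ τ) ≫
        D.split.inv.hom.hom ≫ t, ?_⟩
      rw [Category.assoc, Category.assoc]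
      change _ ≫ _ ≫ t ≫ p = _
      rw [ht]
  obtain ⟨y₁, hy₁⟩ := key c₁ hc₁
  obtain ⟨y₂, hy₂⟩ := key c₂ hc₂
  refine ⟨(unitIso K).hom ≫ y₁, (unitIso K).hom ≫ y₂, (unitIso K).hom ≫ m.pts K (nw m.E K l), ?_,
    fun X y => exists_conj m _ (fun C _ _ τ => ?_) X y⟩
  · have h1 : (unitIso K).inv ≫ g = m.pts K (c₁ * nw m.E K l * c₂) := by
      rw [← h, MulEquiv.apply_symm_apply]
    rw [Category.assoc, Category.assoc, hy₁, hy₂, ← MonObj.comp_mul, ← MonObj.comp_mul, ← map_mul,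
      ← map_mul, ← h1, Iso.hom_inv_id_assoc]
  · rw [nw_nat]
    exact NwConj.exists_conj_nw m.E hl τ

end Main

end Groth.Agent.RedSub.H652.BruhatPt
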