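import Groth.Agent.RedSub.H652.SplitK
import Groth.Agent.RedSub.H652.BruhatPt
import Groth.Agent.RedSub.H645.BorelConj
import Groth.Agent.Sga3B.SplitRedField415

/-!
# Common maximal tori of two parabolic subgroups over an algebraically closed field

* `isMaximalTorus_conjHom`: conjugates of maximal tori by sections are maximal tori (any base);
* `exists_of_conj`: `B` and a conjugate of `B` contain a common maximal torus;
* `exists_common`: two parabolic subgroups of a reductive group over an algebraically closed field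
  contain a common maximal torus of `G`;
* `h411`: the same in the form of the hypothesis of S3000.
-/

set_option autoImplicit false
universe u

open CategoryTheory MonoidalCategory CartesianMonoidalCategory MonObj GrpObj AlgebraicGeometry Limits

namespace Groth.Agent.RedSub.H652.CommonTorus

open Groth.Agent.Sga3B Groth.Agent.Sga3B.Parab Groth.Agent.Sga3B.RedIso
open Groth.Agent.Sga3B.Parab.ConjPt Groth.Agent.Sga3B.RG.BrHc

section Conj

variable {S : Scheme.{u}} {G T : Over S} [GrpObj G] [GrpObj T]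

/-- conjugation by a section as an automorphism -/
noncomputable def conjIso (c : 𝟙_ (Over S) ⟶ G) : G ≅ G where
  hom := conjHom c (𝟙 G)
  inv := conjHom c⁻¹ (𝟙 G)
  hom_inv_id := by
    rw [comp_conjHom', Category.comp_id, conjHom_inv_conjHom]
  inv_hom_id := by
    rw [comp_conjHom', Category.comp_id, conjHom_conjHom_inv]

instance (c : 𝟙_ (Over S) ⟶ G) : IsMonHom (conjIso c).hom :=
  inferInstanceAs (IsMonHom (conjHom c (𝟙 G)))

/-- Conjugates of maximal tori are maximal tori. -/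
theorem isMaximalTorus_conjHom (c : 𝟙_ (Over S) ⟶ G) {i : T ⟶ G} (h : Red.IsMaximalTorus i) :
    Red.IsMaximalTorus (conjHom c i) :=
  AlgBc.isMaximalTorus_of_arrow (Iso.refl _) (Grp.mkIso' (conjIso c)) (by
    change i ≫ conjHom c (𝟙 G) = 𝟙 T ≫ conjHom c i
    rw [comp_conjHom', Category.comp_id, Category.id_comp]) h

end Conj

variable {K : Type u} [Field K] [IsAlgClosed K] {G P Q : Over (Spec (CommRingCat.of K))} [GrpObj G]
  [GrpObj P] [GrpObj Q]

omit [GrpObj Q] in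
/-- A parabolic subgroup and a conjugate of it contain a common maximal torus. -/
theorem exists_of_conj (hG : Red.IsReductive G) (p : P ⟶ G) (hp : Red.IsParabolic p) (q : Q ⟶ G)
    (c : 𝟙_ (Over (Spec (CommRingCat.of K))) ⟶ G) (hg : Conj p q c) :
    ∃ (T : Over (Spec (CommRingCat.of K))) (_ : GrpObj T) (i : T ⟶ G), Red.IsMaximalTorus i ∧
      (∃ a : T ⟶ P, a ≫ p = i) ∧ ∃ b : T ⟶ Q, b ≫ q = i := by
  have hpm := hp.1
  obtain ⟨D, t, x, ht, hx⟩ := SplitK.exists_split hG p hp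
  have hred : D.P.IsReduced := SplitReduced415.isReduced D
  obtain ⟨b, hb⟩ := H671.IwaPt.exists_base D.P x.toAddMonoidHom
  let Pn : Red.Pinning G := { D with base := b }
  obtain ⟨b₁, b₂, n, h, hn⟩ := BruhatPt.bruhat Pn x hb hx t ht c⁻¹
  have hi : ∀ {X : Over (Spec (CommRingCat.of K))} (d : 𝟙_ _ ⟶ P) (y : X ⟶ P),
      (toUnit X ≫ d ≫ p) * (y ≫ p) * (toUnit X ≫ d ≫ p)⁻¹ =
        ((toUnit X ≫ d) * y * (toUnit X ≫ d)⁻¹) ≫ p := by
    intro X d y
    rw [MonObj.mul_comp, MonObj.mul_comp, GrpObj.inv_comp, Category.assoc]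
  refine ⟨D.T, inferInstance, conjHom (b₂⁻¹ ≫ p) D.i,
    isMaximalTorus_conjHom _ D.maximalTorus, ?_, ?_⟩
  · exact ⟨_, by rw [conjHom, ← ht, hi]⟩
  · -- `c⁻¹ (b₂⁻¹ t b₂) c = b₁ (n t n⁻¹) b₁⁻¹`
    obtain ⟨y', hy'⟩ := hn D.T (𝟙 _)
    have hc : toUnit D.T ≫ c = ((toUnit D.T ≫ b₁ ≫ p) * (toUnit D.T ≫ n) *
        (toUnit D.T ≫ b₂ ≫ p))⁻¹ := by
      rw [← MonObj.comp_mul, ← MonObj.comp_mul, ← GrpObj.comp_inv, ← h, _root_.inv_inv]
    have h3 : conjHom (b₂⁻¹ ≫ p) D.i =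
        (toUnit D.T ≫ b₂ ≫ p)⁻¹ * D.i * (toUnit D.T ≫ b₂ ≫ p) := by
      rw [conjHom, GrpObj.inv_comp, GrpObj.comp_inv, _root_.inv_inv]
    have h4 : y' ≫ D.i = (toUnit D.T ≫ n) * D.i * (toUnit D.T ≫ n)⁻¹ := by
      have h5 : 𝟙 D.T ≫ Pn.i = D.i := Category.id_comp _
      rw [h5] at hy'
      exact hy'.symm
    have h1 : Mem p ((toUnit D.T ≫ c)⁻¹ * conjHom (b₂⁻¹ ≫ p) D.i * (toUnit D.T ≫ c)) := by
      refine ⟨(toUnit D.T ≫ b₁) * (y' ≫ t) * (toUnit D.T ≫ b₁)⁻¹, ?_⟩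
      rw [← hi, Category.assoc, ht, h4, hc, h3]
      group
    have h2 := (hg D.T (toUnit D.T) _).1 h1
    obtain ⟨w, hw⟩ := h2
    refine ⟨w, ?_⟩
    rw [hw]
    group

/-- **Two parabolic subgroups of a reductive group over an algebraically closed field contain a
common maximal torus.** -/
theorem exists_common (hG : Red.IsReductive G) (p : P ⟶ G) (hp : Red.IsParabolic p) (q : Q ⟶ G)
    (hq : Red.IsParabolic q) :
    ∃ (T : Over (Spec (CommRingCat.of K))) (_ : GrpObj T) (i : T ⟶ G), Red.IsMaximalTorus i ∧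
      (∃ a : T ⟶ P, a ≫ p = i) ∧ ∃ b : T ⟶ Q, b ≫ q = i := by
  obtain ⟨-, -, -, B, _, b, hb⟩ := AlgBc.isParabolic_iff.1 hp
  obtain ⟨-, -, -, B', _, b', hb'⟩ := AlgBc.isParabolic_iff.1 hq
  have h1 : IsAffineHom G.hom := hG.1
  have h2 : Smooth G.hom := hG.2.1
  have h3 : IsAffine G.left := isAffine_of_isAffineHom G.hom
  obtain ⟨c, hc⟩ := H645.BorelConj.exists_conj hb hb'
  obtain ⟨T, _, i, hi, ⟨x, hx⟩, ⟨y, hy⟩⟩ := exists_of_conj hG (b ≫ p)
    (AlgBc.isParabolic_iff.2 ⟨hb.1, hb.2.1, hb.2.2.1, B, inferInstance, 𝟙 B, by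
      rwa [Category.id_comp]⟩) (b' ≫ q) c hc
  exact ⟨T, inferInstance, i, hi, ⟨x ≫ b, by rw [Category.assoc, hx]⟩,
    ⟨y ≫ b', by rw [Category.assoc, hy]⟩⟩

/-- The hypothesis `h411` of S3000 and of other statements. -/
theorem h411 (K : Type u) [Field K] [IsAlgClosed K] (H P₁ Q₁ : Over (Spec (CommRingCat.of K)))
    [GrpObj H] [GrpObj P₁] [GrpObj Q₁] (p₁ : P₁ ⟶ H) (q₁ : Q₁ ⟶ H) (hH : Red.IsReductive H)
    (hp : Red.IsParabolic p₁) (hq : Red.IsParabolic q₁) :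
    ∃ (T : Over (Spec (CommRingCat.of K))) (_ : GrpObj T) (i : T ⟶ H), Red.IsMaximalTorus i ∧
      (∃ a : T ⟶ P₁, a ≫ p₁ = i) ∧ ∃ b : T ⟶ Q₁, b ≫ q₁ = i :=
  exists_common hH p₁ hp q₁ hq

end Groth.Agent.RedSub.H652.CommonTorus
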