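import Groth.Prelude.Def_Red
import Groth.Agent.S3042
import Groth.Agent.UnramA.FibreFlat
import Mathlib.AlgebraicGeometry.Morphisms.FlatDescent
import Mathlib.AlgebraicGeometry.Morphisms.FlatMono
import Groth.Agent.Sga3B.Parab.FibIsoSch

/-!
# Fibrewise criterion for open immersions

`X`, `Y` over `S`, `X` flat and locally of finite presentation, `Y` locally of finite type:
a morphism `f : X ⟶ Y` over `S` is an open immersion as soon as for every point `s` of `S` it becomes an open
immersion over some field valued point of `S` lying over `s` (for instance over a geometric point).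
-/

set_option autoImplicit false

universe u

open CategoryTheory Limits AlgebraicGeometry

namespace Groth.Agent.RedSub.H652.FibOpen

variable {S : Scheme.{u}}

/-- `Spec K → Spec k` is surjective, flat and quasi-compact. -/
lemma surj_flat_qc {k K : Type u} [Field k] [Field K] (φ : k →+* K) :
    (@Surjective ⊓ @Flat ⊓ @QuasiCompact : MorphismProperty Scheme.{u})
      (Spec.map (CommRingCat.ofHom φ)) := by
  refine ⟨⟨⟨fun y => ⟨IsLocalRing.closedPoint K, Subsingleton.elim _ _⟩⟩, ?_⟩, inferInstance⟩
  rw [HasRingHomProperty.Spec_iff (P := @Flat)]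
  algebraize [φ]
  exact (inferInstance : Module.Flat k K)

/-- Being an open immersion on the fibre over `s` can be checked over a field valued point over `s`. -/
lemma isOpenImmersion_fibre {X Y : Over S} (f : X ⟶ Y) {K : Type u} [Field K]
    (x : Spec (CommRingCat.of K) ⟶ S) {s : S} (hs : x (IsLocalRing.closedPoint K) = s)
    (h : IsOpenImmersion ((Over.pullback x).map f).left) :
    IsOpenImmersion (pullback.snd f.left (Y.hom.fiberι s)) := by
  obtain ⟨⟨s', φ⟩, hφ⟩ := (S.SpecToEquivOfField K).symm.surjective x
  rw [Scheme.SpecToEquivOfField_symm_apply] at hφ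
  dsimp only at hφ
  have hs' : s' = s := by
    rw [← hs, ← hφ]
    simp
  subst hs'
  -- `Y_x ⟶ Y_s`
  have hw : pullback.snd Y.hom x ≫ Spec.map φ ≫ S.fromSpecResidueField s' =
      pullback.fst Y.hom x ≫ Y.hom := by
    rw [hφ, pullback.condition]
  let q : pullback Y.hom x ⟶ Y.hom.fiber s' := pullback.lift (pullback.fst Y.hom x)
    (pullback.snd Y.hom x ≫ Spec.map φ) (by rw [Category.assoc, hw])
  have hq1 : q ≫ Y.hom.fiberι s' = pullback.fst Y.hom x := pullback.lift_fst _ _ _
  have hq2 : q ≫ Y.hom.fiberToSpecResidueField s' = pullback.snd Y.hom x ≫ Spec.map φ :=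
    pullback.lift_snd _ _ _
  have hq : IsPullback q (pullback.snd Y.hom x) (Y.hom.fiberToSpecResidueField s') (Spec.map φ) := by
    have h1 : IsPullback (q ≫ Y.hom.fiberι s') (pullback.snd Y.hom x) Y.hom
        (Spec.map φ ≫ S.fromSpecResidueField s') := by
      rw [hq1, hφ]
      exact IsPullback.of_hasPullback _ _
    exact IsPullback.of_right h1 hq2 (IsPullback.of_hasPullback _ _)
  have hqP : (@Surjective ⊓ @Flat ⊓ @QuasiCompact : MorphismProperty Scheme.{u}) q :=
    MorphismProperty.of_isPullback hq.flip (surj_flat_qc φ.hom)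
  -- `X_x ⟶ Y_x` is the base change of `X_s ⟶ Y_s`
  have h1 := Groth.Agent.Sga3B.Parab.FibIsoSch.isPullback_map_left x f
  have h2 : IsPullback (pullback.fst X.hom x) ((Over.pullback x).map f).left f.left
      (q ≫ Y.hom.fiberι s') := by
    rw [hq1]
    exact h1
  have h3 := IsPullback.of_right' h2 (IsPullback.of_hasPullback f.left (Y.hom.fiberι s'))
  exact MorphismProperty.of_isPullback_of_descendsAlong (P := @IsOpenImmersion)
    (Q := @Surjective ⊓ @Flat ⊓ @QuasiCompact) h3.flip hqP h

/-- **Fibrewise criterion for open immersions.** -/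
theorem isOpenImmersion_of_fibres {X Y : Over S} (f : X ⟶ Y) [Flat X.hom]
    [LocallyOfFinitePresentation X.hom] [LocallyOfFiniteType Y.hom]
    (h : ∀ s : S, ∃ (K : Type u) (_ : Field K) (x : Spec (CommRingCat.of K) ⟶ S),
      x (IsLocalRing.closedPoint K) = s ∧ IsOpenImmersion ((Over.pullback x).map f).left) :
    IsOpenImmersion f.left := by
  have h1 : ∀ s : S, IsOpenImmersion (pullback.snd f.left (Y.hom.fiberι s)) := by
    intro s
    obtain ⟨K, _, x, hx, hK⟩ := h s
    exact isOpenImmersion_fibre f x hx hK
  have hflat : Flat f.left :=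
    (Groth.Agent.UnramA.FibreFlat.flat_and_flat_of_fibres Y.hom X.hom f.left (Over.w f)
      fun s => by have := h1 s; infer_instance).1
  have hlfp : LocallyOfFinitePresentation f.left :=
    Groth.Agent.UnramA.LfpOfComp.lfp_of_comp f.left Y.hom (by rw [Over.w f]; infer_instance)
      inferInstance
  have hmono : Mono f.left := by
    rw [Groth.Agent.S3042.result]
    intro y
    obtain ⟨t, ht⟩ := Groth.Agent.UnramA.FibreFlat.isPullback_fiber_pullback f.left Y.hom y
    have := h1 (Y.hom y)
    have : Mono (pullback.snd f.left (Y.hom.fiberι (Y.hom y))) := inferInstance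
    exact MorphismProperty.of_isPullback (P := MorphismProperty.monomorphisms Scheme.{u}) ht this
  exact IsOpenImmersion.of_flat_of_mono f.left

/-- The geometric point `Red.geomPt s` lies over `s`. -/
lemma geomPt_closedPoint (s : S) :
    (Red.geomPt s) (IsLocalRing.closedPoint (AlgebraicClosure (S.residueField s))) = s := by
  have h : (Spec.map (CommRingCat.ofHom (algebraMap (S.residueField s)
      (AlgebraicClosure (S.residueField s)))))
      (IsLocalRing.closedPoint (AlgebraicClosure (S.residueField s))) =
      IsLocalRing.closedPoint (S.residueField s) := Subsingleton.elim _ _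
  rw [Scheme.Hom.comp_apply, h]
  exact S.fromSpecResidueField_apply s _

/-- Fibrewise criterion for open immersions, with the geometric fibres. -/
theorem isOpenImmersion_of_geomFibres {X Y : Over S} (f : X ⟶ Y) [Flat X.hom]
    [LocallyOfFinitePresentation X.hom] [LocallyOfFiniteType Y.hom]
    (h : ∀ s : S, IsOpenImmersion ((Over.pullback (Red.geomPt s)).map f).left) :
    IsOpenImmersion f.left :=
  isOpenImmersion_of_fibres f fun s => ⟨_, inferInstance, Red.geomPt s, geomPt_closedPoint s, h s⟩

end Groth.Agent.RedSub.H652.FibOpen
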