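import Groth.Agent.Sga3B.CellEtAlg
import Groth.Agent.Books.AffBridge2
import Groth.Agent.Sga3B.RG.BrDiag
import Mathlib.RingTheory.Etale.Kaehler
import Mathlib.AlgebraicGeometry.Morphisms.Etale
import Mathlib.AlgebraicGeometry.Morphisms.FlatMono
import Mathlib.AlgebraicGeometry.Morphisms.OpenImmersion

/-!
# Monomorphisms between smooth affine schemes of the same dimension

`A`, `C` smooth `R`-algebras, `Spec A` connected, `φ : A → C` étale and `ψ : A → C` formally unramified: then `ψ` is
étale.  Consequence: a monomorphism `f : X ⟶ Y` between smooth affine schemes over `S = Spec R` with `Y` connected is an open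
immersion as soon as there is some open immersion `j : X ⟶ Y` over `S`.
-/

set_option autoImplicit false

universe u

open TensorProduct KaehlerDifferential CategoryTheory AlgebraicGeometry

namespace Groth.Agent.RedSub.H652.MonoOpen

section Alg

variable {R A C : Type u} [CommRing R] [CommRing A] [CommRing C] [Algebra R A] [Algebra R C]

/-- The rank of the differentials is the same at `q` and at `φ⁻¹ q` when `φ` is étale. -/
lemma rankAtStalk_of_etale [Algebra.Smooth R A] [Algebra.Smooth R C] (φ : A →ₐ[R] C)
    (hφ : φ.toRingHom.FormallyEtale) (q : PrimeSpectrum C) :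
    Module.rankAtStalk Ω[A⁄R] (q.comap φ.toRingHom) = Module.rankAtStalk Ω[C⁄R] q := by
  let _ := φ.toRingHom.toAlgebra
  have : IsScalarTower R A C := .of_algebraMap_eq fun r => (φ.commutes r).symm
  have : Algebra.FormallyEtale A C := hφ
  have e := KaehlerDifferential.tensorKaehlerEquivOfFormallyEtale R A C
  rw [← Module.rankAtStalk_eq_of_equiv e, Module.rankAtStalk_baseChange]
  rfl

/-- **Formally unramified maps between smooth algebras of the same dimension are étale.** -/
theorem etale_of_unramified [Algebra.Smooth R A] [Algebra.Smooth R C]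
    [PreconnectedSpace (PrimeSpectrum A)] (φ ψ : A →ₐ[R] C) (hφ : φ.toRingHom.FormallyEtale)
    (hψ : ψ.toRingHom.FormallyUnramified) : ψ.toRingHom.Etale := by
  have hconst : ∀ p q : PrimeSpectrum A,
      Module.rankAtStalk Ω[A⁄R] p = Module.rankAtStalk Ω[A⁄R] q := by
    intro p q
    have := Module.isLocallyConstant_rankAtStalk (R := A) (M := Ω[A⁄R])
    exact this.apply_eq_of_isPreconnected isPreconnected_univ trivial trivial
  have hr : ∀ q : PrimeSpectrum C, Module.rankAtStalk Ω[A⁄R] (q.comap ψ.toRingHom) =
      Module.rankAtStalk Ω[C⁄R] q := fun q => by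
    rw [← rankAtStalk_of_etale φ hφ q]
    exact hconst _ _
  let _ := ψ.toRingHom.toAlgebra
  have : IsScalarTower R A C := .of_algebraMap_eq fun r => (ψ.commutes r).symm
  have : Algebra.FormallyUnramified A C := hψ
  have : Algebra.FinitePresentation A C := .of_restrict_scalars_finitePresentation R A C
  change Algebra.Etale A C
  rw [← Algebra.etaleLocus_eq_univ_iff_etale]
  refine Set.eq_univ_of_forall fun q => ?_
  refine Groth.Agent.Sga3B.CellEtAlg.mem_etaleLocus (R := R) q ?_ (hr q)
  rw [Module.notMem_support_iff]
  have : Subsingleton Ω[C⁄A] := inferInstance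
  infer_instance

end Alg

section Sch

open Groth.Agent.Books.AffBridge Groth.Agent.Books.AffBridge2 Groth.Agent.Sga3B.RG.BrDiag

variable {R : Type u} [CommRing R]

lemma etale_specMap_iff {A B : Type u} [CommRing A] [CommRing B] [Algebra R A] [Algebra R B]
    (f : A →ₐ[R] B) : Etale (specMap R f).left ↔ f.toRingHom.Etale :=
  HasRingHomProperty.Spec_iff (P := @Etale) (φ := CommRingCat.ofHom f.toRingHom)

lemma formallyUnramified_specMap_iff {A B : Type u} [CommRing A] [CommRing B] [Algebra R A]
    [Algebra R B] (f : A →ₐ[R] B) :
    FormallyUnramified (specMap R f).left ↔ f.toRingHom.FormallyUnramified :=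
  HasRingHomProperty.Spec_iff (P := @FormallyUnramified) (φ := CommRingCat.ofHom f.toRingHom)

/-- Let `X`, `Y` be smooth affine schemes over `Spec R`, `Y` connected.  A monomorphism `f : X ⟶ Y` over `Spec R` is an
open immersion as soon as there is an open immersion `j : X ⟶ Y` over `Spec R`. -/
theorem isOpenImmersion_of_mono {X Y : Over (Spec (CommRingCat.of R))} [IsAffine X.left]
    [IsAffine Y.left] [Smooth X.hom] [Smooth Y.hom] [PreconnectedSpace Y.left] (f j : X ⟶ Y)
    [Mono f.left] [IsOpenImmersion j.left] : IsOpenImmersion f.left := by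
  obtain ⟨C, _, _, ⟨eX⟩⟩ := exists_specOver X
  obtain ⟨A, _, _, ⟨eY⟩⟩ := exists_specOver Y
  have hX : Algebra.Smooth R C := by
    rw [← smooth_specOver_iff R C, hom_eq_of_iso eX.symm]
    infer_instance
  have hY : Algebra.Smooth R A := by
    rw [← smooth_specOver_iff R A, hom_eq_of_iso eY.symm]
    infer_instance
  have hc : PreconnectedSpace (PrimeSpectrum A) := by
    have h1 : Continuous eY.hom.left := eY.hom.left.continuous
    have h2 : Function.Surjective eY.hom.left := eY.hom.left.surjective
    exact h2.denseRange.preconnectedSpace h1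
  let f' := eX.inv ≫ f ≫ eY.hom
  let j' := eX.inv ≫ j ≫ eY.hom
  have hf' : Mono f'.left := by
    change Mono (eX.inv.left ≫ f.left ≫ eY.hom.left)
    infer_instance
  have hj' : IsOpenImmersion j'.left := by
    change IsOpenImmersion (eX.inv.left ≫ j.left ≫ eY.hom.left)
    infer_instance
  have h1 : (specPreimage R j').toRingHom.FormallyEtale := by
    have h2 : Etale j'.left := inferInstance
    rw [← specMap_specPreimage R j', etale_specMap_iff] at h2
    exact h2.formallyEtale
  have h3 : (specPreimage R f').toRingHom.FormallyUnramified := by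
    have h4 : IsIso (Limits.pullback.diagonal f'.left) :=
      (Limits.pullback.isIso_diagonal_iff _).mpr inferInstance
    have h2 : FormallyUnramified f'.left := inferInstance
    rw [← specMap_specPreimage R f', formallyUnramified_specMap_iff] at h2
    exact h2
  have h5 : Etale f'.left := by
    rw [← specMap_specPreimage R f', etale_specMap_iff]
    exact etale_of_unramified (specPreimage R j') (specPreimage R f') h1 h3
  have h6 : IsOpenImmersion f'.left := IsOpenImmersion.of_flat_of_mono f'.left
  have h7 : f.left = eX.hom.left ≫ f'.left ≫ eY.inv.left := by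
    rw [← Over.comp_left, ← Over.comp_left]
    congr 1
    simp [f']
  rw [h7]
  infer_instance

end Sch

end Groth.Agent.RedSub.H652.MonoOpen
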