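import Groth.Agent.RedSub.H652.UnipChar
import Groth.Agent.RedSub.H652.MonoOpen
import Groth.Agent.RedSub.H645.BorelConj
import Groth.Agent.Sga3B.Parab.DynBorel128
import Groth.Agent.Sga3B.Parab.DynCell998
import Groth.Agent.Sga3B.Parab.Semi
import Groth.Agent.Sga3B.Parab.Inter
import Groth.Agent.Sga3B.Parab.PbFinal910
import Groth.Agent.RedSub.H651.BorLevi

/-!
# Borel subgroups in general position over an algebraically closed field

`B = P_G(λ)`, `U = U_G(λ)`, `B' = P_G(λ')`, `U' = U_G(λ')`.  If `U' ∩ U = 1` then `U' ∩ B = 1`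
and `U' × B ⟶ G` is an open immersion.
-/

set_option autoImplicit false

universe u

open CategoryTheory MonoidalCategory CartesianMonoidalCategory MonObj GrpObj AlgebraicGeometry Limits
open Groth.Agent.Sga3B Groth.Agent.Sga3B.Parab Groth.Agent.Sga3B.Parab.ConjPt
open Groth.Agent.Sga3B.Parab.Dyn998 Groth.Agent.Sga3B.Parab.DynExist998
open Groth.Agent.Sga3B.Parab.DynLevi998 Groth.Agent.Sga3B.Parab.DynCell998
open Groth.Agent.Sga3B.Parab.OppPts172

namespace Groth.Agent.RedSub.H652.GenPosK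

section Mono

variable {S : Scheme.{u}} {G B U' : Over S} [GrpObj G] [GrpObj B] [GrpObj U']

/-- The product map `U' × B ⟶ G` is a monomorphism if `U' ∩ B = 1`. -/
theorem mono_mul {v : U' ⟶ G} {i : B ⟶ G} [IsMonHom v] [IsMonHom i] [Mono i]
    (h : ∀ (X : Over S) (x : X ⟶ U') (y : X ⟶ B), x ≫ v = y ≫ i → x = 1) :
    Mono ((v ⊗ₘ i) ≫ μ[G]) := by
  constructor
  intro X a b hab
  rw [comp_mul_tensor, comp_mul_tensor] at hab
  have h1 : ((b ≫ fst _ _)⁻¹ * (a ≫ fst _ _)) ≫ v = ((b ≫ snd _ _) * (a ≫ snd _ _)⁻¹) ≫ i := by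
    rw [MonObj.mul_comp, MonObj.mul_comp, GrpObj.inv_comp, GrpObj.inv_comp, inv_mul_eq_iff_eq_mul,
      ← _root_.mul_assoc, eq_mul_inv_iff_mul_eq]
    simpa using hab
  have h2 := h X _ _ h1
  have h3 : a ≫ fst _ _ = b ≫ fst _ _ := by
    rw [inv_mul_eq_one] at h2
    exact h2.symm
  have h4 : a ≫ snd _ _ = b ≫ snd _ _ := by
    rw [h2, MonObj.one_comp] at h1
    have h5 : (1 : X ⟶ B) ≫ i = ((b ≫ snd _ _) * (a ≫ snd _ _)⁻¹) ≫ i := by
      rw [← h1, MonObj.one_comp]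
    have h6 := (cancel_mono i).1 h5
    exact (mul_inv_eq_one.1 h6.symm).symm
  exact CartesianMonoidalCategory.hom_ext _ _ h3 h4

/-- Conjugate monomorphisms have isomorphic sources. -/
theorem exists_iso_of_conj {P Q : Over S} {p : P ⟶ G} {q : Q ⟶ G} [Mono p] [Mono q]
    {g : 𝟙_ (Over S) ⟶ G} (hg : Conj p q g) :
    ∃ e : P ≅ Q, e.hom ≫ q = (toUnit P ≫ g) * p * (toUnit P ≫ g)⁻¹ := by
  obtain ⟨f, hf⟩ := (hg P (toUnit P) p).1 ⟨𝟙 P, Category.id_comp _⟩
  obtain ⟨f', hf'⟩ := (hg Q (toUnit Q) ((toUnit Q ≫ g)⁻¹ * q * (toUnit Q ≫ g))).2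
    ⟨𝟙 Q, by rw [Category.id_comp]; group⟩
  have h1 : ∀ {X Y : Over S} (a : X ⟶ Y), a ≫ toUnit Y ≫ g = toUnit X ≫ g := by
    intro X Y a
    rw [← Category.assoc, toUnit_unique (a ≫ toUnit Y) (toUnit X)]
  refine ⟨⟨f, f', ?_, ?_⟩, hf⟩
  · rw [← cancel_mono p, Category.assoc, hf', MonObj.comp_mul, MonObj.comp_mul, GrpObj.comp_inv,
      hf, h1, Category.id_comp]
    group
  · rw [← cancel_mono q, Category.assoc, hf, MonObj.comp_mul, MonObj.comp_mul, GrpObj.comp_inv,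
      hf', h1, Category.id_comp]
    group

end Mono

variable {K : Type u} [Field K] [IsAlgClosed K]
  {G B B' U U' Z Z' : Over (Spec (CommRingCat.of K))} [GrpObj G] [GrpObj B] [GrpObj B'] [GrpObj U]
  [GrpObj U'] [GrpObj Z] [GrpObj Z']

/-- If `U' ∩ U = 1` then `U' ∩ B = 1`. -/
theorem eq_one_of_eq [IsAffine G.left] {lam lam' : Red.Gm (Spec (CommRingCat.of K)) ⟶ G}
    [IsMonHom lam] [IsMonHom lam'] {i : B ⟶ G} {u : U ⟶ B} {z : Z ⟶ B} {v : U' ⟶ G}
    (hi : IsClosedImmersion i.left) (hv : IsClosedImmersion v.left)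
    (hp : IsDynP lam i) (hu : IsDynU lam (u ≫ i)) (hz : IsDynZ lam (z ≫ i)) (hZ : Red.IsTorus Z)
    (hu' : IsDynU lam' v)
    (hb : ∀ (X : Over (Spec (CommRingCat.of K))) (x : X ⟶ U') (y : X ⟶ U), x ≫ v = y ≫ u ≫ i → x = 1)
    (X : Over (Spec (CommRingCat.of K))) (x : X ⟶ U') (y : X ⟶ B) (hxy : x ≫ v = y ≫ i) : x = 1 := by
  have := hp.isMonHom
  have := hp.mono
  have := hu'.isMonHom
  have := hu'.mono
  have haff : IsAffineHom G.hom := inferInstance
  obtain ⟨W, _, a, b, ha, hbm, hW⟩ := Inter.exists_inter v i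
  have h1 : IsIso ((z ⊗ₘ u) ≫ μ[B]) := isIso_levi hp hz hu
  have := isMonHom_zP hp hz
  have := isMonHom_uP hp hu
  have h2 : IsMonHom (Semi.pr z u) := Semi.isMonHom_pr z u (isNormalHom_uP hp hu)
  have hac : IsClosedImmersion a.left :=
    MorphismProperty.of_isPullback (hW.map (Over.forget _)).flip hi
  have hWc : IsClosedImmersion (a ≫ v).left := by
    rw [Over.comp_left]
    exact MorphismProperty.comp_mem _ _ _ hac hv
  have h3 : b ≫ Semi.pr z u = 1 :=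
    UnipChar.hom_torus_eq_one lam' (a ≫ v) (hu'.ptU.comp a) hZ _
  have h4 := Semi.exists_of_pr_eq_one z u b h3
  have h5 : a = 1 := hb W a (b ≫ Semi.qr z u) (by
    rw [hW.w]
    conv_lhs => rw [h4]
    simp only [Category.assoc])
  have h6 : x = hW.lift x y hxy ≫ a := (hW.lift_fst _ _ _).symm
  generalize hW.lift x y hxy = l at h6
  rw [h6, h5, MonObj.comp_one]

/-- `B = P_G(μ)`, `U = U_G(μ)` and `Z_G(μ)` is a torus. -/
theorem exists_coch (hG : Red.IsReductive G) (hG' : Red.IsReductiveOver K G) {i : B ⟶ G}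
    (hi : Red.IsBorelOver K i) {u : U ⟶ B} (lam : Red.Gm (Spec (CommRingCat.of K)) ⟶ G)
    [IsMonHom lam] (hp : IsDynP lam i) (hu : IsDynU lam (u ≫ i)) :
    ∃ (T : Over (Spec (CommRingCat.of K))) (_ : GrpObj T) (t : T ⟶ B)
      (mu : Red.Gm (Spec (CommRingCat.of K)) ⟶ G), IsMonHom mu ∧ Red.IsTorus T ∧ IsDynP mu i ∧
        IsDynU mu (u ≫ i) ∧ IsDynZ mu (t ≫ i) := by
  have hGa : IsAffine G.left := hG'.1
  have hic := hi.2.1
  have hBa : IsAffine B.left := isAffine_of_isAffineHom i.left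
  have hBs : Smooth B.hom := hi.2.2.1
  obtain ⟨T, _, t, ht, -⟩ := RG.BrHc.exists_isMaximalTorus B
  obtain ⟨-, nu, hnu, h1, h2⟩ := PbFinal.dynK2B K G B i hG' hi T t ht
  have hpm := hp.isMonHom
  have htm := ht.1
  refine ⟨T, inferInstance, t, nu ≫ t ≫ i, inferInstance, ht.2.2.1, h1, ?_, h2⟩
  refine ⟨hu.isMonHom, hu.mono, fun X g => ?_⟩
  rw [hu.iff_ptU]
  exact ⟨RadExist147.ptU_of_ptU H651.BorLevi.pcU hG _ _ hp h1 g,
    RadExist147.ptU_of_ptU H651.BorLevi.pcU hG _ _ h1 hp g⟩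

/-- There is an open immersion `U' × B ⟶ G` over `K`. -/
theorem exists_open_immersion (hG : Red.IsReductive G) (hG' : Red.IsReductiveOver K G)
    {i : B ⟶ G} {i' : B' ⟶ G} (hi : Red.IsBorelOver K i) (hi' : Red.IsBorelOver K i')
    {u' : U' ⟶ B'} (lam' : Red.Gm (Spec (CommRingCat.of K)) ⟶ G) [IsMonHom lam']
    (hp' : IsDynP lam' i') (hu' : IsDynU lam' (u' ≫ i')) :
    ∃ j : U' ⊗ B ⟶ G, IsOpenImmersion j.left := by
  have hGa : IsAffine G.left := hG'.1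
  have hGaff : IsAffineHom G.hom := inferInstance
  have hGs : Smooth G.hom := hG'.2.1
  obtain ⟨T, _, t, mu, hmu, hT, h1, h2, h3⟩ := exists_coch hG hG' hi' lam' hp' hu'
  obtain ⟨Q, _, q, hq, hqc⟩ := exists_isDynP (negLam mu)
  have h4 : IsDynZ (negLam mu) (t ≫ i') :=
    ⟨h3.isMonHom, h3.mono, fun X g => (h3.iff_ptZ X g).trans ptZ_negLam.symm⟩
  have h5 : Red.IsBorelOver K q :=
    DynBorel128.isBorelOver_of_isDynP PbFinal.dynK1 hG' (negLam mu) h4 hT hq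
  have h6 : IsDynU (negLam (negLam mu)) (u' ≫ i') := by
    rw [negLam_negLam]
    exact h2
  have h7 := isOpenImmersion_cell hq h6
  obtain ⟨g, hg⟩ := H645.BorelConj.exists_conj hi h5
  have hqm := hq.mono
  have hic := hi.2.1
  have him : Mono i := Books.AlgPtsGrp.mono_of_isClosedImmersion i
  obtain ⟨e, -⟩ := exists_iso_of_conj hg
  refine ⟨(U' ◁ e.hom) ≫ ((u' ≫ i') ⊗ₘ q) ≫ μ[G], ?_⟩
  have h8 : IsIso (U' ◁ e.hom).left := (Over.forget _).map_isIso (U' ◁ e.hom)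
  rw [Over.comp_left]
  exact MorphismProperty.comp_mem _ _ _ (inferInstance : IsOpenImmersion (U' ◁ e.hom).left) h7

/-- **Borel subgroups `B = P_G(λ)`, `B' = P_G(λ')` with `U_G(λ') ∩ U_G(λ) = 1` are in general position.** -/
theorem isOpenImmersion (hG : Red.IsReductive G) (hG' : Red.IsReductiveOver K G)
    {i : B ⟶ G} {i' : B' ⟶ G} (hi : Red.IsBorelOver K i) (hi' : Red.IsBorelOver K i')
    {u : U ⟶ B} {u' : U' ⟶ B'} (lam lam' : Red.Gm (Spec (CommRingCat.of K)) ⟶ G) [IsMonHom lam]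
    [IsMonHom lam'] (hp : IsDynP lam i) (hu : IsDynU lam (u ≫ i))
    (hp' : IsDynP lam' i') (hu' : IsDynU lam' (u' ≫ i'))
    (hb : ∀ (X : Over (Spec (CommRingCat.of K))) (x : X ⟶ U') (y : X ⟶ U),
      x ≫ u' ≫ i' = y ≫ u ≫ i → x = 1) :
    IsOpenImmersion (((u' ≫ i') ⊗ₘ i) ≫ μ[G]).left := by
  have hGa : IsAffine G.left := hG'.1
  have hGaff : IsAffineHom G.hom := inferInstance
  have hGs : Smooth G.hom := hG'.2.1
  have hGc : ConnectedSpace G.left := hG'.2.2.1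
  obtain ⟨T, _, t, mu, hmu, hT, h1, h2, h3⟩ := exists_coch hG hG' hi lam hp hu
  have hcl : IsClosedImmersion (u' ≫ i').left := hu'.isClosedImmersion
  have h4 := eq_one_of_eq hi.2.1 hcl h1 h2 h3 hT hu' hb
  obtain ⟨j, hj⟩ := exists_open_immersion hG hG' hi hi' lam' hp' hu'
  have him := hi.1
  have hic := hi.2.1
  have him' : Mono i := Books.AlgPtsGrp.mono_of_isClosedImmersion i
  have hum := hu'.isMonHom
  have h5 : Mono (((u' ≫ i') ⊗ₘ i) ≫ μ[G]) := mono_mul h4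
  have h6 : Mono (((u' ≫ i') ⊗ₘ i) ≫ μ[G]).left := inferInstance
  have hU'a : IsAffine U'.left := isAffine_of_isAffineHom (u' ≫ i').left
  have hBa : IsAffine B.left := isAffine_of_isAffineHom i.left
  have hXa : IsAffine (U' ⊗ B).left := inferInstanceAs (IsAffine (pullback U'.hom B.hom))
  have hXs : Smooth (U' ⊗ B).hom := by
    rw [← Over.w j]
    infer_instance
  exact MonoOpen.isOpenImmersion_of_mono (((u' ≫ i') ⊗ₘ i) ≫ μ[G]) j

end Groth.Agent.RedSub.H652.GenPosK
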