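import Groth.Agent.RedSub.H651.BorLevi
import Groth.Agent.Sga3B.Parab.Semi
import Groth.Agent.Sga3B.MT.TorusFam
import Groth.Agent.Sga3B.SplitBc264

/-!
# `Z_G(λ)` is a maximal torus if `P_G(λ)` is a Borel subgroup; Levi subgroups of Borel subgroups
-/

set_option autoImplicit false

universe u

open CategoryTheory MonoidalCategory CartesianMonoidalCategory MonObj GrpObj AlgebraicGeometry Limits
open Groth.Agent.Sga3B Groth.Agent.Sga3B.Parab Groth.Agent.Sga3B.Parab.DynExist998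

namespace Groth.Agent.RedSub.H652.LeviTorus

variable {S : Scheme.{u}}

/-- Two complements of the same normal subgroup are isomorphic. -/
theorem exists_iso_of_complement {P L L' V : Over S} [GrpObj P] [GrpObj L] [GrpObj L'] [GrpObj V]
    (l : L ⟶ P) (l' : L' ⟶ P) (v : V ⟶ P) [IsMonHom l] [IsMonHom l'] [IsMonHom v]
    (hn : AlgGrp.IsNormalHom v) [IsIso ((l ⊗ₘ v) ≫ μ[P])] [IsIso ((l' ⊗ₘ v) ≫ μ[P])] :
    Nonempty (Grp.mk L ≅ Grp.mk L') := by
  have h1 : IsMonHom (Semi.pr l' v) := Semi.isMonHom_pr l' v hn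
  have key : ∀ {L L' : Over S} [GrpObj L] [GrpObj L'] (l : L ⟶ P) (l' : L' ⟶ P) [IsMonHom l]
      [IsMonHom l'] [IsIso ((l ⊗ₘ v) ≫ μ[P])] [IsIso ((l' ⊗ₘ v) ≫ μ[P])],
      (l ≫ Semi.pr l' v) ≫ l' ≫ Semi.pr l v = 𝟙 L := by
    intro L L' _ _ l l' _ _ _ _
    rw [← Category.assoc]
    refine Semi.comp_pr_eq l v _ (𝟙 L) (l ≫ Semi.qr l' v)⁻¹ ?_
    rw [GrpObj.inv_comp, eq_mul_inv_iff_mul_eq, Category.id_comp]
    have h3 := Semi.pr_mul_qr l' v l
    simpa only [Category.assoc] using h3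
  let e : L ≅ L' := ⟨l ≫ Semi.pr l' v, l' ≫ Semi.pr l v, key l l', key l' l⟩
  have he : IsMonHom e.hom := inferInstanceAs (IsMonHom (l ≫ Semi.pr l' v))
  exact ⟨Grp.mkIso' e⟩

variable {G B Z : Over S} [GrpObj G] [GrpObj B] [GrpObj Z]

/-- If the Borel subgroup `B = P_G(λ)` contains a maximal torus of `G` which is split, then
`Z_G(λ)` is a maximal torus. -/
theorem isMaximalTorus_aux (hG : Red.IsReductive G) {i : B ⟶ G} (hB : Red.IsBorel i)
    (lam : Red.Gm S ⟶ G) [IsMonHom lam] (hp : IsDynP lam i) {z : Z ⟶ G} (hz : IsDynZ lam z)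
    {T : Over S} [GrpObj T] (t : T ⟶ B) (hT : Red.IsMaximalTorus (t ≫ i)) {r : ℕ}
    (e : Grp.mk T ≅ Grp.mk (Red.DS S (Fin r → ℤ))) : Red.IsMaximalTorus z := by
  have hGa := hG.1
  have him := hB.1
  obtain ⟨z', rfl⟩ := DynLevi998.exists_zP hp hz
  obtain ⟨W, _, w₀, hw, -⟩ := exists_isDynU lam
  obtain ⟨w, rfl⟩ := DynLevi998.exists_uP hp hw
  have hL := H651.BorLevi.isLevi hG i hB t hT
  obtain ⟨h1, h2, h3, V, _, v, hV, hiso⟩ := hL
  obtain ⟨-, hW, hLz⟩ := H651.BorLevi.pcU lam hG i hp w hw z' hz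
  have hiso' : IsIso ((z' ⊗ₘ w) ≫ μ[B]) := DynLevi998.isIso_levi hp hz hw
  have := hW.1
  have := hV.1
  have := hLz.1
  -- the two unipotent radicals agree
  have hwm : Mono w := by
    have := hW.2.1
    exact Groth.Agent.Sga3C.ClosedSub.mono_of_left w
  have hvm : Mono v := by
    have := hV.2.1
    exact Groth.Agent.Sga3C.ClosedSub.mono_of_left v
  obtain ⟨a, ha⟩ := hV.2.2.2.2.2.2 W w hW.2.1 hW.2.2.1 hW.2.2.2.1 hW.2.2.2.2.1 hW.2.2.2.2.2.1
  obtain ⟨b, hb⟩ := hW.2.2.2.2.2.2 V v hV.2.1 hV.2.2.1 hV.2.2.2.1 hV.2.2.2.2.1 hV.2.2.2.2.2.1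
  have hab : a ≫ b = 𝟙 W := by rw [← cancel_mono w, Category.assoc, hb, ha, Category.id_comp]
  have hba : b ≫ a = 𝟙 V := by rw [← cancel_mono v, Category.assoc, ha, hb, Category.id_comp]
  have hai : IsIso a := ⟨b, hab, hba⟩
  have hiso'' : IsIso ((t ⊗ₘ w) ≫ μ[B]) := by
    have h4 : (t ⊗ₘ w) ≫ μ[B] = (T ◁ a) ≫ (t ⊗ₘ v) ≫ μ[B] := by
      rw [← ha, ← id_tensorHom, tensorHom_comp_tensorHom_assoc, Category.id_comp]
    rw [h4]
    infer_instance
  obtain ⟨e'⟩ := exists_iso_of_complement t z' w hW.2.2.1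
  have hZT : Red.IsTorus Z := TorusBc.isTorus_of_iso e' hT.2.2.1
  have hcomm : ∀ {X : Over S} (x y : X ⟶ Z), x * y = y * x := fun x y =>
    BorTor168.comm_of_split (e'.symm ≪≫ e) x y
  refine SplitBc264.isMaximalTorus_of_isCentralizerOf hZT ⟨hz.isMonHom, hz.mono, fun X g => ?_⟩
  have hzm := hz.isMonHom
  constructor
  · rintro ⟨y, rfl⟩ X' x h
    rw [← Category.assoc, ← MonObj.mul_comp, ← MonObj.mul_comp, hcomm]
  · intro h
    rw [hz.iff_ptZ, ptZ_iff_centralizes]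
    intro X' x y
    -- `λ` factors through `Z`
    obtain ⟨lz, hlz⟩ : ∃ lz : Red.Gm S ⟶ Z, lz ≫ z' ≫ i = lam := by
      rw [hz.iff_ptZ, ptZ_iff_centralizes]
      intro X'' x' y'
      have h5 : ∀ {X : Over S} (p q : X ⟶ Red.Gm S), p * q = q * p := fun p q =>
        BorTor168.comm_of_split (Iso.refl (Grp.mk (Red.DS S ℤ))) p q
      have h6 := MonObj.mul_comp x' y' lam
      have h7 := MonObj.mul_comp y' x' lam
      rw [h5] at h6
      exact h6.symm.trans h7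
    rw [← hlz, ← Category.assoc y lz]
    exact h X' x (y ≫ lz)

/-- **If `P_G(λ)` is a Borel subgroup then `Z_G(λ)` is a maximal torus.** -/
theorem isMaximalTorus_of_isDynZ (hG : Red.IsReductive G) {i : B ⟶ G} (hB : Red.IsBorel i)
    (lam : Red.Gm S ⟶ G) [IsMonHom lam] (hp : IsDynP lam i) {z : Z ⟶ G} (hz : IsDynZ lam z) :
    Red.IsMaximalTorus z := by
  have h := fun s => PbFinal.pcP S G B i hG (H651.BorLevi.isParabolic_of_isBorel hB) s
  choose R _ f hf hs T _ t r e x h1 h2 h3 h4 using h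
  refine MT.isMaximalTorus_of_family f hf (fun s => ⟨s, hs s⟩) z hz.isMonHom hz.mono fun s => ?_
  have := hf s
  have := Desc.LQF.of_etale (f s)
  exact isMaximalTorus_aux (RedCover147.isReductive_bc (f s) hG) (RedCover147.isBorel_bc (f s) hB)
    _ (hp.bc (f := f s)) (hz.bc (f := f s)) (t s) (h3 s) (e s)

/-- **Levi subgroups of Borel subgroups are maximal tori.** -/
theorem isMaximalTorus_of_isLevi (hG : Red.IsReductive G) {i : B ⟶ G} (hB : Red.IsBorel i)
    {L : Over S} [GrpObj L] (l : L ⟶ B) (hl : Par.IsLevi l) : Red.IsMaximalTorus (l ≫ i) := by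
  have him := hB.1
  have hlm := hl.1
  have hlmono := hl.2.1
  have hic := hB.2.1
  have himono : Mono i := Groth.Agent.Sga3C.ClosedSub.mono_of_left i
  have h := fun s => PcLOf172.dynPcL H651.BorLevi.pcP K3b143.dynK3 S G B L i l hG
    (H651.BorLevi.isParabolic_of_isBorel hB) hl s
  choose S' f hf hs lam hlam h1 h2 using h
  refine MT.isMaximalTorus_of_family f hf (fun s => ⟨s, hs s⟩) (l ≫ i) inferInstance
    inferInstance fun s => ?_
  have := hf s
  have := Desc.LQF.of_etale (f s)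
  have := hlam s
  exact isMaximalTorus_of_isDynZ (RedCover147.isReductive_bc (f s) hG)
    (RedCover147.isBorel_bc (f s) hB) (lam s) (h1 s) (h2 s)

end Groth.Agent.RedSub.H652.LeviTorus
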