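import Groth.Agent.RedSub.H652.GenPosS
import Groth.Agent.Sga3B.Parab.Fin147
import Groth.Agent.Sga3B.Parab.PbAll910
import Groth.Agent.RedSub.H652.LeviTorus

/-!
# Borel subgroups in general position: the implications
-/

set_option autoImplicit false

universe u

open CategoryTheory MonoidalCategory CartesianMonoidalCategory MonObj GrpObj AlgebraicGeometry Limits
open Groth.Agent.Sga3B Groth.Agent.Sga3B.Parab

namespace Groth.Agent.RedSub.H652.GenPosMain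

variable {S : Scheme.{u}} {G B B' U U' : Over S} [GrpObj G] [GrpObj B] [GrpObj B'] [GrpObj U]
  [GrpObj U']

/-- `B ∩ B'` is a maximal torus of `G`. -/
def GenPos (i : B ⟶ G) (i' : B' ⟶ G) : Prop :=
  ∃ (T : Over S) (_ : GrpObj T) (t : T ⟶ B) (t' : T ⟶ B'), IsMonHom t ∧ IsPullback t t' i i' ∧
    Red.IsMaximalTorus (t ≫ i)

lemma GenPos.isLevi (hG : Red.IsReductive G) {i : B ⟶ G} {i' : B' ⟶ G} (hB : Red.IsBorel i)
    (hB' : Red.IsBorel i') (h : GenPos i i') :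
    ∃ (T : Over S) (_ : GrpObj T) (t : T ⟶ B) (t' : T ⟶ B'), IsPullback t' t i' i ∧ Par.IsLevi t ∧
      Par.IsLevi t' := by
  obtain ⟨T, _, t, t', ht, hP, hT⟩ := h
  refine ⟨T, inferInstance, t, t', hP.flip, H651.BorLevi.isLevi hG i hB t hT,
    H651.BorLevi.isLevi hG i' hB' t' ?_⟩
  rw [← hP.w]
  exact hT

/-- (a) ⇒ (c) -/
theorem isOpenImmersion_of_genPos (hG : Red.IsReductive G) {i : B ⟶ G} {i' : B' ⟶ G}
    (hB : Red.IsBorel i) (hB' : Red.IsBorel i') {u' : U' ⟶ B'} (hU' : Par.IsUnipotentRadical u')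
    (h : GenPos i i') : IsOpenImmersion (((u' ≫ i') ⊗ₘ i) ≫ μ[G]).left := by
  obtain ⟨T, _, t, t', hP, h1, h2⟩ := h.isLevi hG hB hB'
  have := h1.1
  have := h2.1
  exact (Fin147.main (fun K _ _ => PbAll.k1 K) (fun K _ _ => PbAll.k2 K) G B' B U' T hG i' i
    (H651.BorLevi.isParabolic_of_isBorel hB') (H651.BorLevi.isParabolic_of_isBorel hB) u' hU' t' t
    hP).1 ⟨h2, h1⟩

/-- (a) ⇒ (b') -/
theorem eq_one_of_genPos (hG : Red.IsReductive G) {i : B ⟶ G} {i' : B' ⟶ G}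
    (hB : Red.IsBorel i) (hB' : Red.IsBorel i') {u' : U' ⟶ B'} (hU' : Par.IsUnipotentRadical u')
    (h : GenPos i i') (X : Over S) (x : X ⟶ U') (y : X ⟶ B) (hxy : x ≫ u' ≫ i' = y ≫ i) : x = 1 := by
  obtain ⟨T, _, t, t', hP, h1, h2⟩ := h.isLevi hG hB hB'
  obtain ⟨h3, h4, h5, V, _, v, hV, hiso⟩ := h2
  have := hU'.1
  have := hV.1
  have hucl := hU'.2.1
  have hum : Mono u' := Groth.Agent.Sga3C.ClosedSub.mono_of_left u'
  obtain ⟨a, ha⟩ := hV.2.2.2.2.2.2 U' u' hU'.2.1 hU'.2.2.1 hU'.2.2.2.1 hU'.2.2.2.2.1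
    hU'.2.2.2.2.2.1
  obtain ⟨w, hw, -⟩ : ∃ w : X ⟶ T, w ≫ t' = x ≫ u' ∧ w ≫ t = y :=
    ⟨hP.lift (x ≫ u') y (by rw [Category.assoc, hxy]), hP.lift_fst _ _ _, hP.lift_snd _ _ _⟩
  have h6 : lift w (1 : X ⟶ V) = lift 1 (x ≫ a) := by
    rw [← cancel_mono ((t' ⊗ₘ v) ≫ μ[B']), Semi.lift_comp_mul, Semi.lift_comp_mul, MonObj.one_comp,
      MonObj.one_comp, _root_.mul_one, _root_.one_mul, hw, Category.assoc, ha]
  have h7 : w = 1 := by
    have h8 := congrArg (· ≫ fst _ _) h6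
    simpa using h8
  rw [← cancel_mono u', ← hw, h7, MonObj.one_comp, MonObj.one_comp]

/-- (c) ⇒ (a) -/
theorem genPos_of_isOpenImmersion (hG : Red.IsReductive G) {i : B ⟶ G} {i' : B' ⟶ G}
    (hB : Red.IsBorel i) (hB' : Red.IsBorel i') {u' : U' ⟶ B'} (hU' : Par.IsUnipotentRadical u')
    (h : IsOpenImmersion (((u' ≫ i') ⊗ₘ i) ≫ μ[G]).left) : GenPos i i' := by
  have him := hB.1
  have him' := hB'.1
  have hmono : Mono i := by
    have := hB.2.1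
    exact Groth.Agent.Sga3C.ClosedSub.mono_of_left i
  have hmono' : Mono i' := by
    have := hB'.2.1
    exact Groth.Agent.Sga3C.ClosedSub.mono_of_left i'
  obtain ⟨L, _, l, m, hl, hm, hL⟩ := Inter.exists_inter i' i
  obtain ⟨-, h2⟩ := (Fin147.main (fun K _ _ => PbAll.k1 K) (fun K _ _ => PbAll.k2 K) G B' B U' L
    hG i' i (H651.BorLevi.isParabolic_of_isBorel hB') (H651.BorLevi.isParabolic_of_isBorel hB) u'
    hU' l m hL).2 h
  exact ⟨L, inferInstance, m, l, hm, hL.flip, LeviTorus.isMaximalTorus_of_isLevi hG hB m h2⟩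

/-- (b) ⇒ (a) -/
theorem genPos_of_eq_one (hG : Red.IsReductive G) {i : B ⟶ G} {i' : B' ⟶ G}
    (hB : Red.IsBorel i) (hB' : Red.IsBorel i') {u : U ⟶ B} (hU : Par.IsUnipotentRadical u)
    {u' : U' ⟶ B'} (hU' : Par.IsUnipotentRadical u')
    (hb : ∀ (X : Over S) (x : X ⟶ U') (y : X ⟶ U), x ≫ u' ≫ i' = y ≫ u ≫ i → x = 1) :
    GenPos i i' :=
  genPos_of_isOpenImmersion hG hB hB' hU' (GenPosS.isOpenImmersion hG hB hB' hU hU' hb)

end Groth.Agent.RedSub.H652.GenPosMain
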