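import Groth.Agent.RedSub.H652.GenPosK
import Groth.Agent.RedSub.H652.FibOpen
import Groth.Agent.Sga3B.RedBcAny636

/-!
# Borel subgroups in general position over a scheme

If `U' ∩ U = 1` then `U' × B ⟶ G` is an open immersion.
-/

set_option autoImplicit false

universe u

open CategoryTheory MonoidalCategory CartesianMonoidalCategory MonObj GrpObj AlgebraicGeometry Limits
open Groth.Agent.Sga3B Groth.Agent.Sga3B.Parab Groth.Agent.Sga3B.Parab.ConjPt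
open Groth.Agent.Sga3B.Parab.Dyn998 Groth.Agent.Sga3B.Parab.DynExist998
open Groth.Agent.Sga3B.Parab.DynLevi998 Groth.Agent.Sga3B.Parab.DynCell998
open Groth.Agent.Sga3B.Parab.OppPts172 Groth.Agent.Sga3B.RedIso Groth.Agent.Sga3B.BcNat
open Groth.Agent.Sga3B.AlgBc

namespace Groth.Agent.RedSub.H652.GenPosS

variable {S S' : Scheme.{u}} {G B B' U U' : Over S} [GrpObj G] [GrpObj B] [GrpObj B'] [GrpObj U]
  [GrpObj U']

/-- `v ∩ w = 1` is stable under base change. -/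
theorem triv_bc (f : S' ⟶ S) {v : U' ⟶ G} {w : U ⟶ G}
    (h : ∀ (X : Over S) (x : X ⟶ U') (y : X ⟶ U), x ≫ v = y ≫ w → x = 1)
    (X : Over S') (x : X ⟶ Red.bc f U') (y : X ⟶ Red.bc f U)
    (hxy : x ≫ (Over.pullback f).map v = y ≫ (Over.pullback f).map w) : x = 1 := by
  have h1 : (DSPts.bcEquiv f X U').symm x = 1 := by
    refine h _ _ ((DSPts.bcEquiv f X U).symm y) ?_
    apply (DSPts.bcEquiv f X G).injective
    rw [← DSPts.bcEquiv_comp, ← DSPts.bcEquiv_comp, MulEquiv.apply_symm_apply,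
      MulEquiv.apply_symm_apply, hxy]
  rw [← MulEquiv.apply_symm_apply (DSPts.bcEquiv f X U') x, h1, map_one]

/-- The case in which `B = P_G(λ)` and `B' = P_G(λ')`. -/
theorem isOpenImmersion_aux (hG : Red.IsReductive G) {i : B ⟶ G} {i' : B' ⟶ G}
    (hB : Red.IsBorel i) (hB' : Red.IsBorel i') {u : U ⟶ B} {u' : U' ⟶ B'}
    (lam lam' : Red.Gm S ⟶ G) [IsMonHom lam] [IsMonHom lam'] (hp : IsDynP lam i)
    (hu : IsDynU lam (u ≫ i)) (hp' : IsDynP lam' i') (hu' : IsDynU lam' (u' ≫ i'))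
    (hb : ∀ (X : Over S) (x : X ⟶ U') (y : X ⟶ U), x ≫ u' ≫ i' = y ≫ u ≫ i → x = 1) :
    IsOpenImmersion (((u' ≫ i') ⊗ₘ i) ≫ μ[G]).left := by
  have hGa : IsAffineHom G.hom := hG.1
  have hGs : Smooth G.hom := hG.2.1
  have hBs : Smooth B.hom := hB.2.2.1
  have hU's : Smooth U'.hom := DynSmooth998.isDynU_smooth hu'
  have hX : Smooth (U' ⊗ B).hom :=
    inferInstanceAs (Smooth (pullback.fst U'.hom B.hom ≫ U'.hom))
  apply FibOpen.isOpenImmersion_of_geomFibres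
  intro s
  rw [← OppB151.isOpenImmersion_map_mul_iff]
  have h1 := hp.bc (f := Red.geomPt s)
  have h2 := hu.bc (f := Red.geomPt s)
  have h1' := hp'.bc (f := Red.geomPt s)
  have h2' := hu'.bc (f := Red.geomPt s)
  rw [Functor.map_comp] at h2 h2'
  rw [Functor.map_comp]
  refine GenPosK.isOpenImmersion (RedBcAny636.isReductive_bc _ hG) (hG.2.2 s) (hB.2.2.2 s)
    (hB'.2.2.2 s) _ _ h1 h2 h1' h2' ?_
  have h3 := triv_bc (Red.geomPt s) hb
  intro X x y hxy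
  refine h3 X x y ?_
  rw [Functor.map_comp, Functor.map_comp]
  exact hxy

/-- Base change of `B = P_G(λ)` along a composite. -/
theorem exists_dynP_comp {S'' : Scheme.{u}} (q : S'' ⟶ S') (g : S' ⟶ S) {i : B ⟶ G} [IsMonHom i]
    (lam : Red.Gm S' ⟶ Red.bc g G) [IsMonHom lam] (h : IsDynP lam ((Over.pullback g).map i)) :
    ∃ lam'' : Red.Gm S'' ⟶ Red.bc (q ≫ g) G, IsMonHom lam'' ∧
      IsDynP lam'' ((Over.pullback (q ≫ g)).map i) := by
  have h1 := (h.bc (f := q)).of_iso₂ (und (BcIso.bcCompIso q g G).symm)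
    (q := (Over.pullback (q ≫ g)).map i) (und (BcIso.bcCompIso q g B).symm)
    (comp_nat_inv q g i).symm
  exact ⟨_, inferInstance, h1⟩

/-- Étale locally both `B = P_G(λ)` and `B' = P_G(λ')`. -/
theorem exists_both (hG : Red.IsReductive G) {i : B ⟶ G} {i' : B' ⟶ G}
    (hB : Red.IsBorel i) (hB' : Red.IsBorel i') (s : S) :
    ∃ (S' : Scheme.{u}) (f : S' ⟶ S), Etale f ∧ s ∈ Set.range f ∧
      ∃ lam lam' : Red.Gm S' ⟶ Red.bc f G, IsMonHom lam ∧ IsMonHom lam' ∧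
        IsDynP lam ((Over.pullback f).map i) ∧ IsDynP lam' ((Over.pullback f).map i') := by
  obtain ⟨S₁, f₁, he₁, ⟨s₁, hs₁⟩, l₁, hl₁, h₁⟩ :=
    H651.BorLevi.pcP i hG (H651.BorLevi.isParabolic_of_isBorel hB) s
  obtain ⟨S₂, f₂, he₂, ⟨s₂, hs₂⟩, l₂, hl₂, h₂⟩ :=
    H651.BorLevi.pcP i' hG (H651.BorLevi.isParabolic_of_isBorel hB') s
  have := hB.1
  have := hB'.1
  obtain ⟨t, ht₁, ht₂⟩ := Scheme.Pullback.exists_preimage_pullback s₁ s₂
    (f := f₁) (g := f₂) (by rw [hs₁, hs₂])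
  obtain ⟨m₁, hm₁, hP₁⟩ := exists_dynP_comp (pullback.fst f₁ f₂) f₁ l₁ h₁
  obtain ⟨m₂, hm₂, hP₂⟩ : ∃ m₂ : Red.Gm _ ⟶ Red.bc (pullback.fst f₁ f₂ ≫ f₁) G, IsMonHom m₂ ∧
      IsDynP m₂ ((Over.pullback (pullback.fst f₁ f₂ ≫ f₁)).map i') := by
    rw [pullback.condition]
    exact exists_dynP_comp (pullback.snd f₁ f₂) f₂ l₂ h₂
  refine ⟨pullback f₁ f₂, pullback.fst f₁ f₂ ≫ f₁, inferInstance, ⟨t, ?_⟩, m₁, m₂, hm₁, hm₂, hP₁,
    hP₂⟩
  rw [Scheme.Hom.comp_apply, ht₁, hs₁]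

/-- **If `U' ∩ U = 1` then `U' × B ⟶ G` is an open immersion.** -/
theorem isOpenImmersion (hG : Red.IsReductive G) {i : B ⟶ G} {i' : B' ⟶ G}
    (hB : Red.IsBorel i) (hB' : Red.IsBorel i') {u : U ⟶ B} (hU : Par.IsUnipotentRadical u)
    {u' : U' ⟶ B'} (hU' : Par.IsUnipotentRadical u')
    (hb : ∀ (X : Over S) (x : X ⟶ U') (y : X ⟶ U), x ≫ u' ≫ i' = y ≫ u ≫ i → x = 1) :
    IsOpenImmersion (((u' ≫ i') ⊗ₘ i) ≫ μ[G]).left := by
  obtain ⟨J, S', f, hf, hcov, hQ⟩ := RedCover147.exists_isEtCov (exists_both hG hB hB')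
  refine RedCover147.isOpenImmersion_of_cover hcov fun j => ?_
  rw [← OppB151.isOpenImmersion_map_mul_iff]
  obtain ⟨lam, lam', hlam, hlam', h1, h1'⟩ := hQ j
  have := hf j
  have := Desc.LQF.of_etale (f j)
  have hG' : Red.IsReductive (Red.bc (f j) G) := RedCover147.isReductive_bc (f j) hG
  have h2 := OppMain151.isDynU_rad H651.BorLevi.pcU H651.BorLevi.pcP hG
    (H651.BorLevi.isParabolic_of_isBorel hB) hU (f j) (hf j) lam h1
  have h2' := OppMain151.isDynU_rad H651.BorLevi.pcU H651.BorLevi.pcP hG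
    (H651.BorLevi.isParabolic_of_isBorel hB') hU' (f j) (hf j) lam' h1'
  rw [Functor.map_comp] at h2 h2'
  rw [Functor.map_comp]
  refine isOpenImmersion_aux hG' (RedCover147.isBorel_bc _ hB) (RedCover147.isBorel_bc _ hB')
    lam lam' h1 h2 h1' h2' ?_
  have h3 := triv_bc (f j) hb
  intro X x y hxy
  refine h3 X x y ?_
  rw [Functor.map_comp, Functor.map_comp]
  exact hxy

end Groth.Agent.RedSub.H652.GenPosS
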