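import Groth.Agent.Books.DynUnip

/-!
# Group-like elements of quotients of `O(U_G(λ))`

`k` a field, `A` a Hopf algebra with a cocharacter `lam : A → k[T;T⁻¹]`, `φ : A → C` a surjective map of bialgebras
which kills the ideal `JU lam` of `U_G(λ)`.  Then `1` is the only group-like element of `C`: closed subgroups of
`U_G(λ)` have no nontrivial characters.
-/

set_option autoImplicit false

open LaurentPolynomial TensorProduct WithConv
open Groth.Agent.Books.DynBasic Groth.Agent.Books.DynLim Groth.Agent.Books.DynUnip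

universe u

namespace Groth.Agent.RedSub.H652.GroupLike

variable {k : Type u} [Field k] {A : Type u} [CommRing A] [HopfAlgebra k A]
variable (lam : A →ₐc[k] k[T;T⁻¹])
variable {C : Type u} [CommRing C] [Bialgebra k C] (φ : A →ₐc[k] C)

/-- image of the elements of degree `< n` -/
noncomputable def F (n : ℕ) : Submodule k C :=
  (filt lam n).map ((φ : A →ₐ[k] C).toLinearMap)

lemma F_mono : Monotone (F lam φ) := fun _ _ h => Submodule.map_mono (filt_mono lam h)

variable (hJ : ∀ a ∈ JU lam, φ a = 0)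

include hJ

lemma map_neg {n : ℤ} (hn : n < 0) {a : A} (ha : a ∈ gr lam n) : φ a = 0 :=
  hJ a (gr_neg_le_JU lam hn ha)

lemma map_zero_deg {a : A} (ha : a ∈ gr lam 0) :
    φ a = algebraMap k C (Coalgebra.counit (R := k) a) := by
  have h1 : a - algebraMap k A (Coalgebra.counit (R := k) a) ∈ JU lam := by
    have := mk_gr_zero lam ha
    rwa [Ideal.Quotient.eq] at this
  have h2 := hJ _ h1
  rw [map_sub, sub_eq_zero] at h2
  rw [h2]
  exact AlgHomClass.commutes φ _

lemma F_zero : F lam φ 0 = ⊥ := by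
  rw [F, filt, Submodule.map_span, Submodule.span_eq_bot]
  rintro _ ⟨a, ⟨i, hi, ha⟩, rfl⟩
  exact map_neg lam φ hJ (by simpa using hi) ha

lemma F_one_le : F lam φ 1 ≤ Submodule.span k {(1 : C)} := by
  rw [F, filt, Submodule.map_span, Submodule.span_le]
  rintro _ ⟨a, ⟨i, hi, ha⟩, rfl⟩
  rcases lt_or_eq_of_le (show i ≤ 0 by push_cast at hi; omega) with h | h
  · have : φ a = 0 := map_neg lam φ hJ h ha
    change φ a ∈ _
    rw [this]
    exact zero_mem _
  · subst h
    change φ a ∈ _
    rw [map_zero_deg lam φ hJ ha, Algebra.algebraMap_eq_smul_one]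
    exact Submodule.smul_mem _ _ (Submodule.subset_span rfl)

omit hJ in
lemma mem_F_of_gr {p : ℤ} {n : ℕ} (hp : p < n) {x : A} (hx : x ∈ gr lam p) : φ x ∈ F lam φ n :=
  ⟨x, Submodule.subset_span ⟨p, hp, hx⟩, rfl⟩

/-- **Closed subgroups of `U_G(λ)` have no nontrivial characters** (Hopf algebra form). -/
theorem eq_one (hφ : Function.Surjective φ) {g : C}
    (hg : Coalgebra.comul (R := k) g = g ⊗ₜ[k] g) (hg1 : Coalgebra.counit (R := k) g = 1) :
    g = 1 := by
  classical
  have hex : ∃ n, g ∈ F lam φ n := by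
    obtain ⟨a, rfl⟩ := hφ g
    obtain ⟨n, hn⟩ := exists_mem_filt lam a
    exact ⟨n, a, hn, rfl⟩
  let n := Nat.find hex
  have hn : g ∈ F lam φ n := Nat.find_spec hex
  have hmin : ∀ m < n, g ∉ F lam φ m := fun m hm => Nat.find_min hex hm
  rcases Nat.lt_or_ge n 2 with h2 | h2
  · have hn1 : g ∈ F lam φ 1 := F_mono lam φ (by omega) hn
    obtain ⟨c, hc⟩ := Submodule.mem_span_singleton.1 (F_one_le lam φ hJ hn1)
    have h3 : Coalgebra.counit (R := k) (c • (1 : C)) = c := by
      rw [map_smul, Bialgebra.counit_one, smul_eq_mul, mul_one]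
    rw [hc, hg1] at h3
    rw [← hc, ← h3, one_smul]
  · exfalso
    obtain ⟨f, hf1, hf2⟩ := Submodule.exists_le_ker_of_notMem (hmin (n - 1) (by omega))
    let fφ : A →ₗ[k] k := f ∘ₗ (φ : A →ₐ[k] C).toLinearMap
    have hfφ : ∀ {p : ℤ}, p < n - 1 → ∀ {x : A}, x ∈ gr lam p → fφ x = 0 := by
      intro p hp x hx
      exact hf2 (mem_F_of_gr lam φ (n := n - 1) (by omega) hx)
    let E : A ⊗[k] A →ₗ[k] k := LinearMap.mul' k k ∘ₗ TensorProduct.map fφ fφ
    have hE : filt lam n ≤ Submodule.comap (Coalgebra.comul (R := k) (A := A)) (LinearMap.ker E) := by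
      rw [filt, Submodule.span_le]
      rintro x ⟨i, hi, hx⟩
      have h3 := comul_mem lam i hx
      have h4 : gr2 lam i ≤ LinearMap.ker E := by
        rw [gr2, Submodule.span_le]
        rintro _ ⟨p, q, hpq, a, ha, b, hb, rfl⟩
        change E (a ⊗ₜ b) = 0
        change fφ a * fφ b = 0
        rcases lt_or_ge p ((n : ℤ) - 1) with hp | hp
        · rw [hfφ hp ha, zero_mul]
        · rw [hfφ (show q < (n : ℤ) - 1 by omega) hb, mul_zero]
      exact h4 h3
    obtain ⟨a, ha, rfl⟩ := hn
    have h5 := hE ha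
    have h6 : E (Coalgebra.comul (R := k) a) = 0 := h5
    have h7 : E (Coalgebra.comul (R := k) a) = (LinearMap.mul' k k ∘ₗ TensorProduct.map f f)
        (Coalgebra.comul (R := k) (φ a)) := by
      have h8 : Coalgebra.comul (R := k) (φ a) =
          TensorProduct.map (φ : A →ₐ[k] C).toLinearMap (φ : A →ₐ[k] C).toLinearMap
            (Coalgebra.comul (R := k) a) :=
        (CoalgHomClass.map_comp_comul_apply φ a).symm
      rw [h8]
      change (LinearMap.mul' k k) (TensorProduct.map fφ fφ _) =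
        (LinearMap.mul' k k) (TensorProduct.map f f (TensorProduct.map _ _ _))
      rw [← LinearMap.comp_apply (TensorProduct.map f f), ← TensorProduct.map_comp]
    rw [h6] at h7
    change 0 = (LinearMap.mul' k k ∘ₗ TensorProduct.map f f)
        (Coalgebra.comul (R := k) ((φ : A →ₐ[k] C).toLinearMap a)) at h7
    rw [hg] at h7
    change 0 = f ((φ : A →ₐ[k] C).toLinearMap a) * f ((φ : A →ₐ[k] C).toLinearMap a) at h7
    exact hf1 (mul_self_eq_zero.1 h7.symm)

end Groth.Agent.RedSub.H652.GroupLike
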