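import Groth.Agent.Sga3B.Parab.PcS150
import Groth.Agent.Sga3B.Parab.Uncond688
import Groth.Agent.Sga3B.SplitFin885
import Groth.Agent.Sga3B.Par.CanBc

/-!
# Parabolic subgroups over an algebraically closed field are `P_G(coch D x)`

`exists_split`: `K` algebraically closed, `p : P ⟶ G` parabolic: there are a splitting `D` of `G`
whose torus is contained in `P` and a coweight `x` with `P = P_G(coch D x)`.
-/

set_option autoImplicit false
universe u

open CategoryTheory MonoidalCategory CartesianMonoidalCategory MonObj GrpObj AlgebraicGeometry Limits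

namespace Groth.Agent.RedSub.H652.SplitK

open Groth.Agent.Sga3B Groth.Agent.Sga3B.Parab Groth.Agent.Sga3B.Par Groth.Agent.Sga3B.RedIso
open Groth.Agent.Sga3B.SplitIso848 Groth.Agent.Sga3B.SplitBc264

/-- there are a splitting whose torus is in `P` and `x` with `P = P_G(x)` -/
def HasSplitG {S : Scheme.{u}} {G P : Over S} [GrpObj G] [GrpObj P] (p : P ⟶ G) : Prop :=
  ∃ (D : Red.SplitRed G) (t : D.T ⟶ P) (x : Module.Dual ℤ D.M), t ≫ p = D.i ∧ IsDynP (coch D x) p

variable {S S' : Scheme.{u}} {G P G' P' : Over S} [GrpObj G] [GrpObj P] [GrpObj G'] [GrpObj P']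

theorem HasSplitG.of_iso {p : P ⟶ G} {p' : P' ⟶ G'} [IsMonHom p'] (h : HasSplitG p)
    (e : Grp.mk G ≅ Grp.mk G') (φ : Grp.mk P ≅ Grp.mk P')
    (w : p ≫ (und e).hom = (und φ).hom ≫ p') : HasSplitG p' := by
  obtain ⟨D, t, x, ht, hx⟩ := h
  refine ⟨splitOfIso e D, t ≫ (und φ).hom, x, ?_, ?_⟩
  · have h1 : (t ≫ (und φ).hom) ≫ p' = D.i ≫ (und e).hom := by
      rw [Category.assoc, ← w, ← Category.assoc, ht]
    exact h1
  · rw [coch_splitOfIso]
    exact hx.of_iso₂ (und e) (und φ) w

theorem HasSplitG.bc (f : S' ⟶ S) {p : P ⟶ G} (h : HasSplitG p) :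
    HasSplitG ((Over.pullback f).map p) := by
  obtain ⟨D, t, x, ht, hx⟩ := h
  refine ⟨splitBc f D, (Over.pullback f).map t, x, ?_, ?_⟩
  · have h1 : (Over.pullback f).map t ≫ (Over.pullback f).map p = (Over.pullback f).map D.i := by
      rw [← Functor.map_comp, ht]
    exact h1
  · rw [coch_splitBc]
    exact hx.bc f

/-- **Parabolic subgroups over an algebraically closed field.** -/
theorem exists_split {K : Type u} [Field K] [IsAlgClosed K]
    {G P : Over (Spec (CommRingCat.of K))} [GrpObj G] [GrpObj P] (hG : Red.IsReductive G)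
    (p : P ⟶ G) (hp : Red.IsParabolic p) : HasSplitG p := by
  have hpm := hp.1
  obtain ⟨S', f, hf, ⟨s', hs'⟩, hD⟩ := PcS150.pcS Uncond688.pcPStmt
    SplitFin885.splitTStmt hG p hp (IsLocalRing.closedPoint K)
  have h0 : HasSplitG ((Over.pullback f).map p) := hD
  obtain ⟨σ, hσ, -⟩ := Scheme.exists_fac_of_etale_of_isSepClosed f (𝟙 (Spec (CommRingCat.of K))) s'
    (by rw [hs']; exact Subsingleton.elim _ _)
  have h1 : HasSplitG ((Over.pullback (σ ≫ f)).map p) :=
    (h0.bc σ).of_iso (BcIso.bcCompIso σ f G).symm (BcIso.bcCompIso σ f P).symm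
      (BcNat.comp_nat_inv σ f p).symm
  rw [hσ] at h1
  exact h1.of_iso (BcIso.bcIdIso G) (BcIso.bcIdIso P) (BcNat.id_nat p).symm

end Groth.Agent.RedSub.H652.SplitK
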