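import Groth.Agent.RedSub.H652.GroupLike
import Groth.Agent.Sga3B.Parab.DynExist998
import Groth.Agent.Sga3B.RG.BrDiag

/-!
# Homomorphisms from closed subgroups of `U_G(λ)` to diagonalizable groups are trivial

`K` a field, `G` an affine `K`-group, `λ` a cocharacter, `w : W ⟶ G` a closed subgroup contained in `U_G(λ)`
(`PtU lam w`).  Then every homomorphism `W ⟶ D(M)` is trivial.
-/

set_option autoImplicit false

universe u

open CategoryTheory MonoidalCategory CartesianMonoidalCategory MonObj GrpObj AlgebraicGeometry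
open scoped LaurentPolynomial
open WithConv
open Groth.Agent.Books.AffBridge Groth.Agent.Books.AffBridge2
open Groth.Agent.Books.DynBasic Groth.Agent.Books.DynLim
open Groth.Agent.Sga3B Groth.Agent.Sga3B.Parab Groth.Agent.Sga3B.Parab.Chart998
open Groth.Agent.Sga3B.Parab.AffPts998 Groth.Agent.Sga3B.Parab.Rep998
open Groth.Agent.Sga3B.Parab.Dyn998 Groth.Agent.Sga3B.Parab.DynExist998 Groth.Agent.Sga3B.RG.BrDiag

namespace Groth.Agent.RedSub.H652.UnipChar

variable {K : Type u} [Field K]

/-- A bialgebra map from a group algebra to `C` is trivial if `1` is the only group-like element of `C`. -/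
lemma groupAlg_trivial {C : Type u} [CommRing C] [Bialgebra K C] {M : Type} [CommGroup M]
    (h : ∀ g : C, Coalgebra.comul (R := K) g = g ⊗ₜ[K] g → Coalgebra.counit (R := K) g = 1 → g = 1)
    (ψ : MonoidAlgebra K M →ₐc[K] C) (m : M) : ψ (MonoidAlgebra.single m 1) = 1 := by
  apply h
  · have h8 : Coalgebra.comul (R := K) (ψ (MonoidAlgebra.single m (1 : K))) =
        TensorProduct.map (ψ : _ →ₐ[K] C).toLinearMap (ψ : _ →ₐ[K] C).toLinearMap
          (Coalgebra.comul (R := K) (MonoidAlgebra.single m (1 : K))) :=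
      (CoalgHomClass.map_comp_comul_apply ψ _).symm
    rw [h8, MonoidAlgebra.comul_single, CommSemiring.comul_apply]
    rfl
  · have h8 : Coalgebra.counit (R := K) (ψ (MonoidAlgebra.single m (1 : K))) =
        Coalgebra.counit (R := K) (MonoidAlgebra.single m (1 : K)) :=
      CoalgHomClass.counit_comp_apply ψ _
    rw [h8, MonoidAlgebra.counit_single]
    simp

variable {G W : Over (Spec (CommRingCat.of K))} [GrpObj G] [GrpObj W]

/-- **Homomorphisms from closed subgroups of `U_G(λ)` to diagonalizable groups are trivial.** -/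
theorem hom_ds_eq_one [IsAffine G.left] (lam : Red.Gm (Spec (CommRingCat.of K)) ⟶ G) [IsMonHom lam]
    (w : W ⟶ G) [IsMonHom w] [IsClosedImmersion w.left] (hW : PtU lam w)
    {M : Type} [AddCommGroup M] (χ : W ⟶ Red.DS (Spec (CommRingCat.of K)) M) [IsMonHom χ] :
    χ = 1 := by
  obtain ⟨A, _, _, e, he⟩ := exists_hopf K G
  have hWaff : IsAffine W.left := isAffine_of_isAffineHom w.left
  obtain ⟨C, _, _, e', he'⟩ := exists_hopf K W
  have hei : IsMonHom e.inv := inferInstance
  have hei' : IsMonHom e'.inv := inferInstance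
  obtain ⟨φ, hφ⟩ := exists_bialgHom_of_isMonHom K (e'.inv ≫ w ≫ e.hom)
  have hsurj : Function.Surjective φ := by
    have : IsClosedImmersion (specMap K (φ : A →ₐ[K] C)).left := by
      rw [hφ, Over.comp_left, Over.comp_left]
      infer_instance
    exact (isClosedImmersion_specMap_iff K _).1 this
  -- `φ` kills the ideal of `U_G(λ)`
  have hJ : ∀ a ∈ JU (lamB lam (chartId e)), (φ : A →ₐ[K] C) a = 0 := by
    rw [← limOne_pt_iff lam (chartId e) (c := Spec.map (CommRingCat.ofHom (algebraMap K C)))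
      (Category.comp_id _), pt_chartId, hφ]
    have h1 : (e'.inv ≫ w ≫ e.hom) ≫ e.inv = e'.inv ≫ w := by simp
    rw [h1]
    exact hW C _ e'.inv
  have key : ∀ g : C, Coalgebra.comul (R := K) g = g ⊗ₜ[K] g → Coalgebra.counit (R := K) g = 1 →
      g = 1 := fun g hg hg1 => GroupLike.eq_one (lamB lam (chartId e)) φ hJ hsurj hg hg1
  -- the homomorphism to the diagonalizable group
  obtain ⟨ψ, hψ⟩ := exists_bialgHom_of_isMonHom K (e'.inv ≫ χ ≫ (diagIso K M).inv.hom.hom)
  have h2 : (ψ : _ →ₐ[K] C) = (1 : WithConv (MonoidAlgebra K (Multiplicative M) →ₐ[K] C)).ofConv := by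
    apply MonoidAlgebra.algHom_ext
    swap
    · exact Subsingleton.elim _ _
    intro m
    rw [AlgHom.convOne_def]
    change ψ (MonoidAlgebra.single m 1) = algebraMap K C (Coalgebra.counit (MonoidAlgebra.single m (1 : K)))
    rw [groupAlg_trivial key ψ m, MonoidAlgebra.counit_single]
    simp
  rw [h2, specMap_one] at hψ
  have h4 : (diagIso K M).inv.hom.hom ≫ (diagIso K M).hom.hom.hom = 𝟙 _ :=
    congrArg (fun f => f.hom.hom) (diagIso K M).inv_hom_id
  have h3 : χ = e'.hom ≫ (e'.inv ≫ χ ≫ (diagIso K M).inv.hom.hom) ≫ (diagIso K M).hom.hom.hom := by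
    simp only [Category.assoc, h4, Iso.hom_inv_id_assoc]
    exact (Category.comp_id _).symm
  have hm : IsMonHom (diagIso K M).hom.hom.hom := (diagIso K M).hom.hom.isMonHom_hom
  have h5 : (1 : SpecOver K C ⟶ SpecOver K (MonoidAlgebra K (Multiplicative M))) ≫
      (diagIso K M).hom.hom.hom = 1 := MonObj.one_comp _
  rw [h3, ← hψ, h5, MonObj.comp_one]

/-- **Homomorphisms from closed subgroups of `U_G(λ)` to tori are trivial** (`K` algebraically closed). -/
theorem hom_torus_eq_one [IsAlgClosed K] [IsAffine G.left]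
    (lam : Red.Gm (Spec (CommRingCat.of K)) ⟶ G) [IsMonHom lam]
    (w : W ⟶ G) [IsMonHom w] [IsClosedImmersion w.left] (hW : PtU lam w)
    {T : Over (Spec (CommRingCat.of K))} [GrpObj T] (hT : Red.IsTorus T) (χ : W ⟶ T) [IsMonHom χ] :
    χ = 1 := by
  obtain ⟨r, ⟨e⟩⟩ := TorusAlgClosed.exists_isSplitTorusWith hT
  have h1 : χ ≫ e.hom.hom.hom = 1 := hom_ds_eq_one lam w hW _
  have h4 : e.hom.hom.hom ≫ e.inv.hom.hom = 𝟙 _ :=
    congrArg (fun f => f.hom.hom) e.hom_inv_id
  have h2 : χ = (χ ≫ e.hom.hom.hom) ≫ e.inv.hom.hom := by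
    rw [Category.assoc, h4]
    exact (Category.comp_id _).symm
  rw [h2, h1, MonObj.one_comp]

end Groth.Agent.RedSub.H652.UnipChar
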